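import Cfsg.Agent.H543.PairOP
import Cfsg.Agent.S1938
import Cfsg.Agent.S1879
import Cfsg.Agent.S4110
import Cfsg.Agent.S1221
import Cfsg.Agent.S0000

/-!
# `|G|` is odd in S3257
-/

set_option autoImplicit false

namespace Cfsg.Agent.H543.PairFinal

open Subgroup Cfsg MulAction
open scoped Pointwise
open Cfsg.Agent.H543.PairOdd Cfsg.Agent.H543.PairStar Cfsg.Agent.H543.PairOP

universe u v

/-- The theorem `star` without hypotheses. -/
theorem le_oddCore {p : ℕ} (hp : p.Prime) (hp2 : p ≠ 2) (G : Type u) [Group G] [Finite G]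
    (A : Subgroup G) (hA : Nat.card A = p) (h : OP A) : A ≤ pPrimeCore 2 G := by
  have hpf : Fact p.Prime := ⟨hp⟩
  refine star hp hp2 ?_ ?_ ?_ ?_ G A hA h
  · intro G _ _ S x hx hiso
    exact Cfsg.Agent.S1938.result S x hx hiso
  · intro G _ _ α hα hodd g
    exact Cfsg.Agent.S4110.result α hα hodd (Subgroup.subset_closure ⟨g, rfl⟩)
  · intro G _ _ hs _ x hx
    exact Cfsg.Agent.S1879.result Cfsg.Agent.S0000.result x hx
  · intro G _ _ H hH
    exact Cfsg.Agent.S1221.result H hH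

/-- In the situation of S3257 the order of `G` is odd. -/
theorem odd_card {G : Type u} [Group G] [Finite G] (hG : ¬ IsMulCommutative G)
    (p : ℕ) (hp : p.Prime) (hp2 : p ≠ 2) (D : Set (Subgroup G)) (hDp : ∀ A ∈ D, Nat.card ↥A = p)
    (hDinv : ∀ A ∈ D, ∀ g : G, A.map (MulAut.conj g).toMonoidHom ∈ D) (hDgen : sSup D = ⊤)
    {F : Type v} [Group F] [Finite F] (hF : Odd (Nat.card F))
    (hpair : ∀ A ∈ D, ∀ B ∈ D, A ≠ B → Nonempty (↥(A ⊔ B) ≃* F)) : Odd (Nat.card G) := by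
  have hOP := op_of_pairs hG hp hp2 hDp hDinv hDgen hF hpair
  have htop : pPrimeCore 2 G = ⊤ := by
    rw [eq_top_iff, ← hDgen]
    exact sSup_le fun A hA => le_oddCore hp hp2 G A (hDp A hA) (hOP A hA)
  rw [Cfsg.Agent.Lib.Cores.pPrimeCore_eq_top_iff] at htop
  exact Nat.coprime_two_right.1 htop

end Cfsg.Agent.H543.PairFinal
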