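import Cfsg.Agent.H543.PairStar

/-!
# Pairs generating a fixed group of odd order

If a `G`-invariant set `D` of subgroups of order `p` generates `G`, `G` is not abelian and any two
members of `D` generate a group isomorphic to `F`, `|F|` odd, then each member of `D` satisfies
`OP`.
-/

set_option autoImplicit false

namespace Cfsg.Agent.H543.PairOP

open Subgroup Cfsg MulAction
open scoped Pointwise
open Cfsg.Agent.H543.PairOdd Cfsg.Agent.H543.PairStar

universe u

section basic
variable {G : Type*} [Group G] [Finite G] {p : ℕ}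

/-- an element of `p`-power order normalising a subgroup of order `p` centralises it -/
theorem commute_of_normalizes (hp : p.Prime) {A : Subgroup G} (hA : Nat.card A = p) {b : G}
    (hb : b ∈ normalizer (A : Set G)) (hb2 : b ^ p = 1) {a : G} (ha : a ∈ A) : a * b = b * a := by
  have hcA : IsCyclic A := by
    have : Fact p.Prime := ⟨hp⟩
    exact isCyclic_of_prime_card hA
  have h1 : orderOf (A.normalizerMonoidHom ⟨b, hb⟩) ∣ p := by
    apply orderOf_dvd_of_pow_eq_one
    rw [← map_pow]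
    have : (⟨b, hb⟩ : normalizer (A : Set G)) ^ p = 1 := Subtype.ext hb2
    rw [this, map_one]
  have h2 : orderOf (A.normalizerMonoidHom ⟨b, hb⟩) ∣ p - 1 := by
    have h3 := orderOf_dvd_natCard (A.normalizerMonoidHom ⟨b, hb⟩)
    rw [IsCyclic.card_mulAut, hA, Nat.totient_prime hp] at h3
    exact h3
  have h3 : orderOf (A.normalizerMonoidHom ⟨b, hb⟩) = 1 := by
    rcases (Nat.dvd_prime hp).1 h1 with h4 | h4
    · exact h4
    · rw [h4] at h2
      have h5 := Nat.le_of_dvd (Nat.sub_pos_of_lt hp.one_lt) h2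
      have h6 := hp.pos
      omega
  rw [orderOf_eq_one_iff] at h3
  have h4 : b * a * b⁻¹ = a := congrArg (fun e : MulAut A => ((e ⟨a, ha⟩ : A) : G)) h3
  exact (mul_inv_eq_iff_eq_mul.1 h4).symm

theorem isMulCommutative_of_le_centralizer {X : Subgroup G} (h : X ≤ centralizer (X : Set G)) :
    IsMulCommutative X :=
  ⟨⟨fun x y => Subtype.ext (mem_centralizer_iff.1 (h y.2) x x.2)⟩⟩

theorem le_centralizer_self (hp : p.Prime) {A : Subgroup G} (hA : Nat.card A = p) :
    A ≤ centralizer (A : Set G) := fun a ha => by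
  rw [mem_centralizer_iff]
  intro b hb
  exact comm_of_card_prime hp hA hb ha

end basic

section pairs
variable {G : Type*} [Group G] [Finite G] {p : ℕ} {D : Set (Subgroup G)}
variable {F : Type*} [Group F] [Finite F]

theorem sup_le_centralizer {A B : Subgroup G} (hA : A ≤ centralizer (A : Set G))
    (hB : B ≤ centralizer (B : Set G)) (hAB : A ≤ centralizer (B : Set G)) :
    A ⊔ B ≤ centralizer ((A ⊔ B : Subgroup G) : Set G) := by
  have hBA := le_centralizer_iff.1 hAB
  exact sup_le (le_centralizer_iff.1 (sup_le hA hBA)) (le_centralizer_iff.1 (sup_le hAB hB))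

/-- `F` is not abelian -/
theorem not_comm_F (hG : ¬ IsMulCommutative G) (hp : p.Prime) (hDp : ∀ A ∈ D, Nat.card ↥A = p)
    (hDgen : sSup D = ⊤)
    (hpair : ∀ A ∈ D, ∀ B ∈ D, A ≠ B → Nonempty (↥(A ⊔ B) ≃* F)) : ¬ IsMulCommutative F := by
  intro hF
  apply hG
  have h1 : ∀ A ∈ D, ∀ B ∈ D, A ≤ centralizer (B : Set G) := by
    intro A hA B hB
    by_cases hAB : A = B
    · rw [← hAB]; exact le_centralizer_self hp (hDp A hA)
    · obtain ⟨e⟩ := hpair A hA B hB hAB
      intro a ha
      rw [mem_centralizer_iff]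
      intro b hb
      have h2 : (⟨b, mem_sup_right hb⟩ : ↥(A ⊔ B)) * ⟨a, mem_sup_left ha⟩ =
          ⟨a, mem_sup_left ha⟩ * ⟨b, mem_sup_right hb⟩ := by
        apply e.injective
        rw [map_mul, map_mul]
        exact hF.is_comm.comm _ _
      exact congrArg Subtype.val h2
  have h2 : sSup D ≤ centralizer ((sSup D : Subgroup G) : Set G) := by
    refine sSup_le fun B hB => le_centralizer_iff.1 (sSup_le fun A hA => ?_)
    exact h1 A hA B hB
  rw [hDgen] at h2
  refine ⟨⟨fun x y => ?_⟩⟩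
  exact mem_centralizer_iff.1 (h2 (mem_top y)) x (mem_top x)

/-- distinct members do not normalise each other -/
theorem eq_of_normalizes (hF : ¬ IsMulCommutative F) (hp : p.Prime)
    (hDp : ∀ A ∈ D, Nat.card ↥A = p)
    (hpair : ∀ A ∈ D, ∀ B ∈ D, A ≠ B → Nonempty (↥(A ⊔ B) ≃* F))
    {A B : Subgroup G} (hA : A ∈ D) (hB : B ∈ D) (h : B ≤ normalizer (A : Set G)) : B = A := by
  by_contra hne
  apply hF
  have h1 : B ≤ centralizer (A : Set G) := by
    intro b hb
    rw [mem_centralizer_iff]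
    intro a ha
    have h2 : b ^ p = 1 := by
      have h3 : (⟨b, hb⟩ : B) ^ Nat.card B = 1 := pow_card_eq_one'
      rw [hDp B hB] at h3
      exact congrArg Subtype.val h3
    exact commute_of_normalizes hp (hDp A hA) (h hb) h2 ha
  have h2 := sup_le_centralizer (le_centralizer_self hp (hDp B hB))
    (le_centralizer_self hp (hDp A hA)) h1
  have h3 := isMulCommutative_of_le_centralizer h2
  obtain ⟨e⟩ := hpair B hB A hA hne
  refine ⟨⟨fun x y => ?_⟩⟩
  apply e.symm.injective
  rw [map_mul, map_mul]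
  exact h3.is_comm.comm _ _

theorem card_sup (hpair : ∀ A ∈ D, ∀ B ∈ D, A ≠ B → Nonempty (↥(A ⊔ B) ≃* F))
    {A B : Subgroup G} (hA : A ∈ D) (hB : B ∈ D) (h : A ≠ B) :
    Nat.card ↥(A ⊔ B) = Nat.card F := by
  obtain ⟨e⟩ := hpair A hA B hB h
  exact Nat.card_congr e.toEquiv

/-- the proper subgroups of `A ⊔ B` containing `A` normalise `A` -/
theorem le_normalizer_of_lt (hDinv : ∀ A ∈ D, ∀ g : G, A.map (MulAut.conj g).toMonoidHom ∈ D)
    (hpair : ∀ A ∈ D, ∀ B ∈ D, A ≠ B → Nonempty (↥(A ⊔ B) ≃* F))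
    {A B : Subgroup G} (hA : A ∈ D) (hB : B ∈ D) (h : A ≠ B) {H : Subgroup G} (hAH : A ≤ H)
    (hH : H < A ⊔ B) : H ≤ normalizer (A : Set G) := by
  intro x hx
  rw [mem_normalizer_iff_conj]
  by_contra hne
  have h1 : MulAut.conj x • A ∈ D := hDinv A hA x
  have h2 : A ⊔ MulAut.conj x • A ≤ H := by
    refine sup_le hAH ?_
    intro y hy
    rw [mem_pointwise_smul_iff_inv_smul_mem, ← map_inv, MulAut.smul_def, MulAut.conj_apply,
      inv_inv] at hy
    have h3 := H.mul_mem (H.mul_mem hx (hAH hy)) (H.inv_mem hx)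
    have e : x * (x⁻¹ * y * x) * x⁻¹ = y := by group
    rwa [e] at h3
  have h3 := card_sup hpair hA h1 (Ne.symm hne)
  have h4 := card_sup hpair hA hB h
  have h5 := card_dvd_of_le h2
  have h6 : Nat.card H < Nat.card ↥(A ⊔ B) := by
    refine lt_of_le_of_ne (Nat.le_of_dvd Nat.card_pos (card_dvd_of_le hH.le)) fun h7 => ?_
    exact hH.ne (Subgroup.eq_of_le_of_card_ge hH.le h7.ge)
  have h7 := Nat.le_of_dvd Nat.card_pos h5
  omega

theorem op_of_pairs (hG : ¬ IsMulCommutative G)
    (hp : p.Prime) (hp2 : p ≠ 2) (hDp : ∀ A ∈ D, Nat.card ↥A = p)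
    (hDinv : ∀ A ∈ D, ∀ g : G, A.map (MulAut.conj g).toMonoidHom ∈ D) (hDgen : sSup D = ⊤)
    (hF : Odd (Nat.card F))
    (hpair : ∀ A ∈ D, ∀ B ∈ D, A ≠ B → Nonempty (↥(A ⊔ B) ≃* F)) : ∀ A ∈ D, OP A := by
  intro A hA g
  have hpf : Fact p.Prime := ⟨hp⟩
  have hFc := not_comm_F hG hp hDp hDgen hpair
  have hgA : MulAut.conj g • A ∈ D := hDinv A hA g
  by_cases hAB : MulAut.conj g • A = A
  · rw [hAB, sup_idem]
    refine ⟨?_, 1, one_mem _, by rw [map_one, one_smul]⟩
    rw [hDp A hA]
    exact hp.odd_of_ne_two hp2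
  set B := MulAut.conj g • A with hB
  have hAB' : A ≠ B := Ne.symm hAB
  have hcard := card_sup hpair hA hgA hAB'
  refine ⟨by rw [hcard]; exact hF, ?_⟩
  set X := A ⊔ B with hX
  have hAX : A ≤ X := le_sup_left
  have hBX : B ≤ X := le_sup_right
  have hBN : ¬ B ≤ normalizer (A : Set G) := fun h =>
    hAB (eq_of_normalizes hFc hp hDp hpair hA hgA h)
  have hpg : ∀ C ∈ D, IsPGroup p (C.subgroupOf X) := by
    intro C hC
    have : IsPGroup p C := IsPGroup.of_card (n := 1) (by rw [hDp C hC, pow_one])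
    exact this.comap_of_injective X.subtype X.subtype_injective
  obtain ⟨P, hP⟩ := (hpg A hA).exists_le_sylow
  have hAQ : A ≤ (P : Subgroup X).map X.subtype := by
    rw [← map_subgroupOf_eq_of_le hAX]
    exact Subgroup.map_mono hP
  have hQX : (P : Subgroup X).map X.subtype ≤ X := map_subtype_le _
  by_cases hQ : (P : Subgroup X).map X.subtype = X
  · exfalso
    -- `X` is a `p`-group
    have hXp : IsPGroup p X := by
      have h1 : (P : Subgroup X) = ⊤ := by
        have h2 : (P : Subgroup X).map X.subtype = (⊤ : Subgroup X).map X.subtype := by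
          rw [hQ, ← MonoidHom.range_eq_map, Subgroup.range_subtype]
        exact Subgroup.map_injective X.subtype_injective h2
      have h3 := P.isPGroup'
      rw [h1] at h3
      exact h3.of_equiv topEquiv
    have hAt : A.subgroupOf X ≠ ⊤ := by
      intro h
      rw [subgroupOf_eq_top] at h
      exact hBN ((hBX.trans h).trans le_normalizer)
    obtain ⟨M, hM, hAM⟩ := (eq_top_or_exists_le_coatom (A.subgroupOf X)).resolve_left hAt
    have := hXp.isNilpotent
    have hMn : M.Normal := NormalizerCondition.normal_of_coatom M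
      (Group.normalizerCondition_of_isNilpotent) hM
    have hAM2 : A ≤ M.map X.subtype := by
      rw [← map_subgroupOf_eq_of_le hAX]
      exact Subgroup.map_mono hAM
    have hMX : M.map X.subtype < X := by
      refine lt_of_le_of_ne (map_subtype_le _) fun h => hM.1 ?_
      have h2 : M.map X.subtype = (⊤ : Subgroup X).map X.subtype := by
        rw [h, ← MonoidHom.range_eq_map, Subgroup.range_subtype]
      exact Subgroup.map_injective X.subtype_injective h2
    have hMN := le_normalizer_of_lt hDinv hpair hA hgA hAB' hAM2 hMX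
    apply hBN
    refine hBX.trans ?_
    intro x hx
    rw [mem_normalizer_iff_conj]
    apply eq_of_normalizes hFc hp hDp hpair hA (hDinv A hA x)
    refine le_trans ?_ hMN
    intro y hy
    obtain ⟨a, ha, rfl⟩ := hy
    refine ⟨⟨x, hx⟩ * ⟨a, hAX ha⟩ * ⟨x, hx⟩⁻¹, hMn.conj_mem _ (hAM ?_) _, rfl⟩
    exact ha
  · have hQN := le_normalizer_of_lt hDinv hpair hA hgA hAB' hAQ (lt_of_le_of_ne hQX hQ)
    obtain ⟨P₂, hP₂⟩ := (hpg B hgA).exists_le_sylow
    obtain ⟨y, hy⟩ := MulAction.exists_smul_eq X P₂ P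
    have h1 : MulAut.conj (y : G) • B ≤ (P : Subgroup X).map X.subtype := by
      intro z hz
      obtain ⟨b, hb, rfl⟩ := hz
      refine ⟨y * ⟨b, hBX hb⟩ * y⁻¹, ?_, rfl⟩
      rw [← hy]
      exact Subgroup.smul_mem_pointwise_smul (⟨b, hBX hb⟩ : X) (MulAut.conj y) (P₂ : Subgroup X)
        (hP₂ (by exact hb))
    have h2 : MulAut.conj (y : G) • B = A :=
      eq_of_normalizes hFc hp hDp hpair hA (hDinv B hgA y) (h1.trans hQN)
    refine ⟨(y : G)⁻¹, X.inv_mem y.2, ?_⟩
    rw [← h2, conj_smul_conj, inv_mul_cancel, map_one, one_smul]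

end pairs

end Cfsg.Agent.H543.PairOP
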