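import Cfsg.Agent.Lib.Cores
import Mathlib.GroupTheory.Transfer
import Mathlib.GroupTheory.PGroup
import Mathlib.GroupTheory.Sylow
import Mathlib.GroupTheory.IndexNormal

/-!
# Subgroups of odd order pairs of whose conjugates generate groups of odd order

`OP A` : `A` and each of its conjugates generate a subgroup of odd order in which they are conjugate.

* `OP.exists_normalizes` : every 2-subgroup normalises a conjugate of `A`;
* `transfer_eq_pow_of_fusion` : transfer of a homomorphism of a subgroup which is constant on the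
  `G`-classes it meets.
-/

set_option autoImplicit false

namespace Cfsg.Agent.H543.PairOdd

open Subgroup Cfsg MulAction
open scoped Pointwise

universe u v

section basic
variable {G : Type u} [Group G]

theorem mem_normalizer_iff_conj {A : Subgroup G} {g : G} :
    g ∈ normalizer (A : Set G) ↔ MulAut.conj g • A = A := by
  constructor
  · intro h
    ext x
    rw [mem_pointwise_smul_iff_inv_smul_mem]
    have h2 := mem_normalizer_iff.1 (inv_mem h) x
    simpa using h2.symm
  · intro h
    rw [← inv_mem_iff, mem_normalizer_iff]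
    intro x
    conv_lhs => rw [← h]
    rw [mem_pointwise_smul_iff_inv_smul_mem]
    simp

theorem conj_smul_conj (A : Subgroup G) (g h : G) :
    MulAut.conj g • MulAut.conj h • A = MulAut.conj (g * h) • A := by
  rw [map_mul, mul_smul]

theorem conj_smul_sup (A B : Subgroup G) (g : G) :
    MulAut.conj g • (A ⊔ B) = MulAut.conj g • A ⊔ MulAut.conj g • B := by
  rw [smul_sup]

theorem normalizer_conj (A : Subgroup G) (g : G) :
    normalizer ((MulAut.conj g • A : Subgroup G) : Set G) =
      MulAut.conj g • normalizer (A : Set G) := by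
  ext x
  rw [mem_normalizer_iff_conj, mem_pointwise_smul_iff_inv_smul_mem, ← map_inv, MulAut.smul_def,
    MulAut.conj_apply, mem_normalizer_iff_conj, inv_inv]
  have e : g⁻¹ * x * g = g⁻¹ * (x * g) := by group
  rw [e, ← conj_smul_conj, ← conj_smul_conj]
  constructor
  · intro h
    rw [h, conj_smul_conj, inv_mul_cancel, map_one, one_smul]
  · intro h
    have h2 : MulAut.conj g • MulAut.conj g⁻¹ • MulAut.conj x • MulAut.conj g • A =
        MulAut.conj g • A := congrArg (fun B => MulAut.conj g • B) h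
    rwa [conj_smul_conj _ g, mul_inv_cancel, map_one, one_smul] at h2

/-- `A` and each of its conjugates generate a subgroup of odd order in which they are
conjugate. -/
def OP (A : Subgroup G) : Prop :=
  ∀ g : G, Odd (Nat.card ↥(A ⊔ MulAut.conj g • A)) ∧
    ∃ f ∈ A ⊔ MulAut.conj g • A, MulAut.conj f • A = MulAut.conj g • A

theorem card_conj (A : Subgroup G) (g : G) :
    Nat.card ↥(MulAut.conj g • A : Subgroup G) = Nat.card A :=
  Nat.card_congr (Subgroup.equivSMul (MulAut.conj g) A).symm.toEquiv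

theorem OP.conj {A : Subgroup G} (h : OP A) (k : G) : OP (MulAut.conj k • A) := by
  intro g
  obtain ⟨h1, f, hf, h2⟩ := h (k⁻¹ * g * k)
  have e : MulAut.conj k • A ⊔ MulAut.conj g • MulAut.conj k • A =
      MulAut.conj k • (A ⊔ MulAut.conj (k⁻¹ * g * k) • A) := by
    rw [conj_smul_sup, conj_smul_conj, conj_smul_conj]
    congr 3
    group
  rw [e]
  refine ⟨by rwa [card_conj], k * f * k⁻¹, ?_, ?_⟩
  · rw [mem_pointwise_smul_iff_inv_smul_mem]
    have : (MulAut.conj k)⁻¹ • (k * f * k⁻¹) = f := by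
      rw [← map_inv, MulAut.smul_def, MulAut.conj_apply]; group
    rwa [this]
  · rw [conj_smul_conj, conj_smul_conj]
    have e1 : k * f * k⁻¹ * k = k * f := by group
    have e2 : g * k = k * (k⁻¹ * g * k) := by group
    rw [e1, e2, ← conj_smul_conj A k f, ← conj_smul_conj A k, h2]

theorem OP.subgroupOf {A : Subgroup G} (h : OP A) {H : Subgroup G} (hA : A ≤ H) :
    OP (A.subgroupOf H) := by
  intro g
  obtain ⟨h1, f, hf, h2⟩ := h g
  have hg : MulAut.conj (g : G) • A ≤ H := by
    intro x hx
    rw [mem_pointwise_smul_iff_inv_smul_mem, ← map_inv, MulAut.smul_def, MulAut.conj_apply,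
      inv_inv] at hx
    have h3 := mul_mem (mul_mem g.2 (hA hx)) (inv_mem g.2)
    have e : (g : G) * ((g : G)⁻¹ * x * (g : G)) * (g : G)⁻¹ = x := by group
    rwa [e] at h3
  have key : ∀ k : H, MulAut.conj k • A.subgroupOf H = (MulAut.conj (k : G) • A).subgroupOf H := by
    intro k
    ext x
    rw [mem_pointwise_smul_iff_inv_smul_mem, mem_subgroupOf, mem_subgroupOf,
      mem_pointwise_smul_iff_inv_smul_mem]
    rfl
  have hs : A.subgroupOf H ⊔ MulAut.conj g • A.subgroupOf H =
      (A ⊔ MulAut.conj (g : G) • A).subgroupOf H := by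
    rw [key, subgroupOf_sup hA hg]
  rw [hs]
  have hX : A ⊔ MulAut.conj (g : G) • A ≤ H := sup_le hA hg
  refine ⟨?_, ⟨f, hX hf⟩, ?_, ?_⟩
  · rwa [Nat.card_congr (subgroupOfEquivOfLe hX).toEquiv]
  · rw [mem_subgroupOf]; exact hf
  · rw [key, key, ← h2]

theorem OP.map {A : Subgroup G} (h : OP A) {K : Type v} [Group K] (π : G →* K)
    (hπ : Function.Surjective π) : OP (A.map π) := by
  intro k
  obtain ⟨g, rfl⟩ := hπ k
  obtain ⟨h1, f, hf, h2⟩ := h g
  have key : ∀ x : G, MulAut.conj (π x) • A.map π = (MulAut.conj x • A).map π := by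
    intro x
    change (A.map π).map (MulAut.conj (π x)).toMonoidHom = (A.map (MulAut.conj x).toMonoidHom).map π
    rw [map_map, map_map]
    congr 1
    ext y
    simp
  have e : A.map π ⊔ MulAut.conj (π g) • A.map π = (A ⊔ MulAut.conj g • A).map π := by
    rw [key, Subgroup.map_sup]
  rw [e]
  refine ⟨h1.of_dvd_nat (card_map_dvd _ _), π f, mem_map_of_mem _ hf, ?_⟩
  rw [key, key, h2]

/-- A 2-subgroup normalises a conjugate of `A`. -/
theorem OP.exists_normalizes [Finite G] {A : Subgroup G} (h : OP A) (n : ℕ) :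
    ∀ T : Subgroup G, Nat.card T = n → IsPGroup 2 T →
      ∃ g : G, T ≤ normalizer ((MulAut.conj g • A : Subgroup G) : Set G) := by
  induction n using Nat.strong_induction_on with
  | _ n ih =>
  intro T hn hT
  by_cases hb : T = ⊥
  · exact ⟨1, by rw [hb]; exact bot_le⟩
  -- a subgroup of index two
  obtain ⟨k, hk⟩ := IsPGroup.iff_card.1 hT
  have hk0 : k ≠ 0 := by
    rintro rfl
    rw [pow_zero] at hk
    exact hb (Subgroup.eq_bot_of_card_eq T hk)
  obtain ⟨j, rfl⟩ := Nat.exists_eq_succ_of_ne_zero hk0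
  have : Fact (Nat.Prime 2) := ⟨Nat.prime_two⟩
  obtain ⟨K, hK⟩ := Sylow.exists_subgroup_card_pow_prime (G := T) 2 (n := j)
    (by rw [hk]; exact pow_dvd_pow _ (Nat.le_succ j))
  have hKi : K.index = 2 := by
    have h1 := K.card_mul_index
    rw [hK, hk, Nat.succ_eq_add_one, pow_succ] at h1
    exact Nat.eq_of_mul_eq_mul_left (pow_pos two_pos j) h1
  have hKn : K.Normal := Subgroup.normal_of_index_eq_two hKi
  have hKlt : Nat.card (K.map T.subtype) < n := by
    rw [Subgroup.card_map_of_injective T.subtype_injective, hK, ← hn, hk]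
    exact Nat.pow_lt_pow_right one_lt_two (Nat.lt_succ_self j)
  obtain ⟨g₁, hg₁⟩ := ih _ hKlt (K.map T.subtype) rfl
    (hT.to_le (Subgroup.map_subtype_le K))
  set B : Subgroup G := MulAut.conj g₁ • A with hB
  have hOB : OP B := h.conj g₁
  obtain ⟨t, ht⟩ : ∃ t : T, t ∉ K := by
    by_contra hcon
    push Not at hcon
    have : K = ⊤ := eq_top_iff.2 fun x _ => hcon x
    rw [this, Subgroup.index_top] at hKi
    omega
  obtain ⟨h1, f, hf, h2⟩ := hOB t
  set X : Subgroup G := B ⊔ MulAut.conj (t : G) • B with hX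
  have hKB : ∀ s : T, s ∈ K → MulAut.conj (s : G) • B = B := fun s hs =>
    mem_normalizer_iff_conj.1 (hg₁ ⟨s, hs, rfl⟩)
  have htK : ∀ s : T, s ∉ K → t⁻¹ * s ∈ K := by
    intro s hs
    have h3 := Subgroup.mul_mem_iff_of_index_two hKi (a := t⁻¹) (b := s)
    rw [h3, inv_mem_iff]
    exact iff_of_false ht hs
  have ht2 : t * t ∈ K := by
    rw [Subgroup.mul_mem_iff_of_index_two hKi]
  -- `T` normalises `X`
  have hTX : ∀ s : T, MulAut.conj (s : G) • X = X := by
    have hKX : ∀ s : T, s ∈ K → MulAut.conj (s : G) • X = X := by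
      intro s hs
      rw [hX, conj_smul_sup, hKB s hs, conj_smul_conj]
      have e : (s : G) * t = t * ((t⁻¹ * s * t : T) : G) := by
        push_cast; group
      rw [e, ← conj_smul_conj, hKB _ (by
        have := hKn.conj_mem s hs t⁻¹
        rwa [inv_inv] at this)]
    have htX : MulAut.conj (t : G) • X = X := by
      have e : (t : G) * t = ((t * t : T) : G) := rfl
      rw [hX, conj_smul_sup, conj_smul_conj B, e, hKB _ ht2, sup_comm]
    intro s
    by_cases hs : s ∈ K
    · exact hKX s hs
    · have e : (s : G) = t * ((t⁻¹ * s : T) : G) := by push_cast; group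
      rw [e, ← conj_smul_conj, hKX _ (htK s hs), htX]
  -- the action on the cosets of the normalizer of `B`
  let N : Subgroup G := normalizer (B : Set G)
  let Ω : Set (G ⧸ N) := MulAction.orbit X (QuotientGroup.mk 1 : G ⧸ N)
  have hΩ : ∀ q : G ⧸ N, q ∈ Ω ↔ ∃ x ∈ X, q = QuotientGroup.mk x := by
    intro q
    constructor
    · rintro ⟨x, rfl⟩
      refine ⟨x, x.2, ?_⟩
      change (x : G) • (QuotientGroup.mk 1 : G ⧸ N) = _
      rw [MulAction.Quotient.smul_mk, smul_eq_mul, mul_one]
    · rintro ⟨x, hx, rfl⟩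
      refine ⟨⟨x, hx⟩, ?_⟩
      change (x : G) • (QuotientGroup.mk 1 : G ⧸ N) = _
      rw [MulAction.Quotient.smul_mk, smul_eq_mul, mul_one]
  have hsN : ∀ s : T, ∃ y ∈ X, (QuotientGroup.mk (s : G) : G ⧸ N) = QuotientGroup.mk y := by
    intro s
    by_cases hs : s ∈ K
    · refine ⟨1, one_mem _, ?_⟩
      rw [QuotientGroup.eq, mul_one, inv_mem_iff]
      exact mem_normalizer_iff_conj.2 (hKB s hs)
    · refine ⟨f, hf, ?_⟩
      rw [QuotientGroup.eq]
      apply mem_normalizer_iff_conj.2
      have e : (s : G) = t * ((t⁻¹ * s : T) : G) := by push_cast; group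
      have h3 : MulAut.conj (s : G) • B = MulAut.conj f • B := by
        rw [e, ← conj_smul_conj, hKB _ (htK s hs), h2]
      rw [← conj_smul_conj, ← h3, conj_smul_conj, inv_mul_cancel, map_one, one_smul]
  let S : SubMulAction T (G ⧸ N) :=
    { carrier := Ω
      smul_mem' := by
        intro s q hq
        obtain ⟨x, hx, rfl⟩ := (hΩ q).1 hq
        apply (hΩ _).2
        obtain ⟨y, hy, hy2⟩ := hsN s
        refine ⟨(s : G) * x * (s : G)⁻¹ * y, mul_mem ?_ hy, ?_⟩
        · have h3 : (s : G) * x * (s : G)⁻¹ ∈ MulAut.conj (s : G) • X := by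
            rw [← MulAut.conj_apply, ← MulAut.smul_def]
            exact smul_mem_pointwise_smul _ _ _ hx
          rwa [hTX s] at h3
        · change (s : G) • (QuotientGroup.mk x : G ⧸ N) = _
          rw [MulAction.Quotient.smul_mk, smul_eq_mul]
          have h3 : ((s : G) * x * (s : G)⁻¹) • (QuotientGroup.mk (s : G) : G ⧸ N) =
              ((s : G) * x * (s : G)⁻¹) • (QuotientGroup.mk y : G ⧸ N) := by rw [hy2]
          rw [MulAction.Quotient.smul_mk, MulAction.Quotient.smul_mk, smul_eq_mul, smul_eq_mul] at h3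
          rw [← h3]
          congr 1
          group }
  have hodd : ¬ 2 ∣ Nat.card S := by
    have h3 : Nat.card S = (MulAction.stabilizer X (QuotientGroup.mk 1 : G ⧸ N)).index := by
      rw [MulAction.index_stabilizer]
      rfl
    rw [h3]
    intro h4
    have h5 := h4.trans (Subgroup.index_dvd_card _)
    exact (Nat.not_even_iff_odd.2 h1) (even_iff_two_dvd.2 h5)
  obtain ⟨⟨q, hq⟩, hfix⟩ := hT.nonempty_fixed_point_of_prime_not_dvd_card S hodd
  obtain ⟨x, hx, rfl⟩ := (hΩ q).1 hq
  refine ⟨x * g₁, ?_⟩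
  rw [← conj_smul_conj, ← hB]
  intro s hs
  have h3 : (s : G) • (QuotientGroup.mk x : G ⧸ N) = QuotientGroup.mk x := by
    have := hfix ⟨s, hs⟩
    exact congrArg Subtype.val this
  rw [MulAction.Quotient.smul_mk, smul_eq_mul, eq_comm, QuotientGroup.eq] at h3
  rw [mem_normalizer_iff_conj]
  have h4 := mem_normalizer_iff_conj.1 h3
  rw [conj_smul_conj]
  have e : s * x = x * (x⁻¹ * (s * x)) := by group
  rw [e, ← conj_smul_conj, h4]

end basic

section transfer
variable {G : Type u} [Group G] {H : Subgroup G} {A : Type v} [CommGroup A] (ϕ : H →* A)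

open MonoidHom

/-- Transfer of a homomorphism all of whose values at the powers of `g` are determined by
fusion. -/
theorem transfer_eq_pow_of_fusion [FiniteIndex H] (g : G) (a : A)
    (key : ∀ (k : ℕ) (g₀ : G) (hk : g₀⁻¹ * g ^ k * g₀ ∈ H), ϕ ⟨g₀⁻¹ * g ^ k * g₀, hk⟩ = a ^ k) :
    transfer ϕ g = a ^ H.index := by
  classical
  let := H.fintypeQuotientOfFiniteIndex
  rw [transfer_eq_prod_quotient_orbitRel_zpowers_quot, index_eq_sum_minimalPeriod H g,
    ← Finset.prod_pow_eq_pow_sum]
  exact Finset.prod_congr rfl fun q _ => key _ _ _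

end transfer

end Cfsg.Agent.H543.PairOdd
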