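import Cfsg.Agent.H543.PairOdd
import Cfsg.Agent.H519.CopRed
import Cfsg.Prelude.Def_Involutions
import Cfsg.Prelude.Def_IsolatedElements
import Cfsg.Prelude.Def_CaseTheorems

/-!
# A subgroup of odd prime order generating groups of odd order with its conjugates

Main theorem `star`: if `A` has odd prime order and `OP A` then `A ≤ O(G)`.  The inputs (the
`Z*`-theorem for `p`, cyclic cores of centralizers of involutions of simple groups, Bender's
theorem and a coprime statement) are hypotheses.
-/

set_option autoImplicit false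

namespace Cfsg.Agent.H543.PairStar

open Subgroup Cfsg MulAction
open scoped Pointwise
open Cfsg.Agent.H543.PairOdd Cfsg.Agent.Lib.Cores Cfsg.Agent.H519.CopRed

universe u

/-- subgroups of a finite cyclic group of the same order are equal -/
theorem eq_of_card_eq_of_cyclic {R : Type*} [Group R] [Finite R] [IsCyclic R] {H K : Subgroup R}
    (h : Nat.card H = Nat.card K) : H = K := by
  classical
  have := Fintype.ofFinite R
  have key : ∀ L : Subgroup R, (L : Set R) = {a | a ^ Nat.card L = 1} := by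
    intro L
    refine Set.eq_of_subset_of_ncard_le ?_ ?_ (Set.toFinite _)
    · intro x hx
      have h1 : (⟨x, hx⟩ : L) ^ Nat.card L = 1 := pow_card_eq_one'
      exact congrArg Subtype.val h1
    · have h1 := IsCyclic.card_pow_eq_one_le (α := R) (n := Nat.card L) Nat.card_pos
      have h2 : {a : R | a ^ Nat.card L = 1}.ncard ≤ Nat.card L := by
        refine le_trans (le_of_eq ?_) h1
        rw [Set.ncard_eq_toFinset_card']
        congr 1
        ext a
        simp
      exact h2
  apply SetLike.coe_injective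
  rw [key H, key K, h]

section pair
variable {G : Type u} [Group G] {p : ℕ}

/-- In a finite `p`-group a subgroup generating the group with a conjugate is the whole group. -/
theorem eq_top_of_sup_conj [Finite G] [Fact p.Prime] (hG : IsPGroup p G) (A : Subgroup G) (f : G)
    (h : A ⊔ MulAut.conj f • A = ⊤) : A = ⊤ := by
  by_contra hne
  obtain ⟨M, hM, hAM⟩ := (eq_top_or_exists_le_coatom A).resolve_left hne
  have := hG.isNilpotent
  have hMn : M.Normal := NormalizerCondition.normal_of_coatom M
    (Group.normalizerCondition_of_isNilpotent) hM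
  apply hM.1
  rw [eq_top_iff, ← h]
  refine sup_le hAM ?_
  intro x hx
  rw [mem_pointwise_smul_iff_inv_smul_mem, ← map_inv, MulAut.smul_def, MulAut.conj_apply,
    inv_inv] at hx
  have h2 := hMn.conj_mem _ (hAM hx) f
  have e : f * (f⁻¹ * x * f) * f⁻¹ = x := by group
  rwa [e] at h2

/-- If `A`, `conj f • A` generate a `p`-group containing `f` they are equal. -/
theorem eq_of_isPGroup [Finite G] [Fact p.Prime] (A : Subgroup G) (f : G)
    (hf : f ∈ A ⊔ MulAut.conj f • A) (hX : IsPGroup p ↥(A ⊔ MulAut.conj f • A)) :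
    MulAut.conj f • A = A := by
  set X := A ⊔ MulAut.conj f • A with hXd
  have hAX : A ≤ X := le_sup_left
  have hBX : MulAut.conj f • A ≤ X := le_sup_right
  have h1 : A.subgroupOf X ⊔ MulAut.conj (⟨f, hf⟩ : X) • A.subgroupOf X = ⊤ := by
    have e : MulAut.conj (⟨f, hf⟩ : X) • A.subgroupOf X = (MulAut.conj f • A).subgroupOf X := by
      ext x
      rw [mem_pointwise_smul_iff_inv_smul_mem, mem_subgroupOf, mem_subgroupOf,
        mem_pointwise_smul_iff_inv_smul_mem]
      rfl
    rw [e, ← subgroupOf_sup hAX hBX, ← hXd, subgroupOf_self]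
  have h2 := eq_top_of_sup_conj hX _ _ h1
  have h3 : A = X := le_antisymm hAX (by
    intro x hx
    have : (⟨x, hx⟩ : X) ∈ A.subgroupOf X := by rw [h2]; trivial
    exact this)
  have h4 : MulAut.conj f • A ≤ A := by rw [← h3] at hBX; exact hBX
  exact Subgroup.eq_of_le_of_card_ge h4 (le_of_eq (card_conj A f).symm)

end pair

section caseI
variable {G : Type u} [Group G] {p : ℕ}

theorem smul_zpowers (g a : G) : MulAut.conj g • zpowers a = zpowers (g * a * g⁻¹) := by
  have : MulAut.conj g • zpowers a = (zpowers a).map (MulAut.conj g).toMonoidHom := rfl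
  rw [this, MonoidHom.map_zpowers]
  rfl

theorem zpowers_eq_of_mem [Finite G] (hp : p.Prime) {A : Subgroup G} (hA : Nat.card A = p) {a : G}
    (ha : a ∈ A) (h1 : a ≠ 1) : zpowers a = A := by
  apply Subgroup.eq_of_le_of_card_ge (zpowers_le.2 ha)
  have h2 : Nat.card (zpowers a) ∣ Nat.card A := card_dvd_of_le (zpowers_le.2 ha)
  rw [hA] at h2 ⊢
  rcases (Nat.dvd_prime hp).1 h2 with h3 | h3
  · exact absurd (zpowers_eq_bot.1 (Subgroup.eq_bot_of_card_eq _ h3)) h1
  · exact h3.ge

theorem comm_of_card_prime [Finite G] (hp : p.Prime) {A : Subgroup G} (hA : Nat.card A = p)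
    {a b : G} (ha : a ∈ A) (hb : b ∈ A) : a * b = b * a := by
  by_cases h1 : a = 1
  · rw [h1, one_mul, mul_one]
  · rw [← zpowers_eq_of_mem hp hA ha h1] at hb
    obtain ⟨k, rfl⟩ := hb
    exact ((Commute.refl a).zpow_right k).eq

theorem ne_bot_of_card [Finite G] (hp : p.Prime) {A : Subgroup G} (hA : Nat.card A = p) : A ≠ ⊥ := by
  rintro rfl
  rw [Subgroup.card_bot] at hA
  exact hp.one_lt.ne hA

/-- `N(A) = C(A)` -/
theorem caseI [Finite G] (hp : p.Prime) (hp2 : p ≠ 2) (A : Subgroup G) (hA : Nat.card A = p)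
    (hOP : OP A) (hO : pPrimeCore 2 G = ⊥)
    (hCl : ∀ N : Subgroup G, N.Normal → N ≠ ⊤ → ¬ A ≤ N)
    (hZ : ∀ (S : Sylow p G) (x : G), x ∈ (S : Subgroup G) →
      (∀ g : G, g * x * g⁻¹ ∈ (S : Subgroup G) → g * x * g⁻¹ = x) → InZStar p x)
    (hcop : ∀ α : MulAut (pPrimeCore p G), (orderOf α).Coprime (Nat.card (pPrimeCore p G)) →
      (∀ g, Odd (orderOf (g⁻¹ * α g))) → ∀ g, g⁻¹ * α g ∈ pPrimeCore 2 (pPrimeCore p G))
    (hNC : ∀ g, MulAut.conj g • A = A → ∀ a ∈ A, g * a * g⁻¹ = a) : False := by
  have hpf : Fact p.Prime := ⟨hp⟩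
  have hAne := ne_bot_of_card hp hA
  have hAodd : (Nat.card A).Coprime 2 := by
    rw [hA]; exact (Nat.coprime_primes hp Nat.prime_two).2 hp2
  -- every element of `A` is isolated
  have hiso : ∀ a ∈ A, InZStar p a := by
    intro a ha
    have hAp : IsPGroup p A := IsPGroup.of_card (n := 1) (by rw [hA, pow_one])
    obtain ⟨S, hS⟩ := hAp.exists_le_sylow
    apply hZ S a (hS ha)
    intro g hg
    by_cases h1 : a = 1
    · rw [h1]; group
    apply hNC g _ a ha
    obtain ⟨-, f, hf, hfg⟩ := hOP g
    have hz := zpowers_eq_of_mem hp hA ha h1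
    have hle : MulAut.conj g • A ≤ S := by
      rw [← hz, smul_zpowers, zpowers_le]
      exact hg
    rw [← hfg]
    rw [← hfg] at hf hle
    exact eq_of_isPGroup A f hf (S.isPGroup'.to_le (sup_le hS hle))
  set K := pPrimeCore p G with hK
  have hKn : K.Normal := Cfsg.Agent.Lib.Cores.pPrimeCore_normal p
  have hKA : (K ⊔ A).Normal := by
    constructor
    intro x hx g
    have h1 : ∀ y ∈ A, g * y * g⁻¹ ∈ K ⊔ A := by
      intro y hy
      have h2 := hiso y hy g
      have e : g * y * g⁻¹ = (g * y * g⁻¹ * y⁻¹) * y := by group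
      rw [e]
      exact mul_mem (mem_sup_left h2) (mem_sup_right hy)
    rw [sup_comm] at hx
    obtain ⟨y, hy, k, hk, rfl⟩ := (Subgroup.mem_sup_of_normal_right).1 hx
    have e : g * (y * k) * g⁻¹ = (g * y * g⁻¹) * (g * k * g⁻¹) := by group
    rw [e]
    exact mul_mem (h1 y hy) (mem_sup_left (hKn.conj_mem k hk g))
  have htop : K ⊔ A = ⊤ := by
    by_contra hne
    exact hCl _ hKA hne le_sup_right
  -- `A` centralises `K`
  have hcen : ∀ a ∈ A, ∀ k ∈ K, a * k * a⁻¹ = k := by
    intro a ha k hk
    let α : MulAut K := MulAut.conjNormal a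
    have hα : ∀ x : K, ((α x : K) : G) = a * x * a⁻¹ := fun x => MulAut.conjNormal_apply a x
    have h1 : (orderOf α).Coprime (Nat.card K) := by
      have h2 : orderOf α ∣ p := by
        apply orderOf_dvd_of_pow_eq_one
        have h3 : a ^ p = 1 := by
          have h4 : (⟨a, ha⟩ : A) ^ Nat.card A = 1 := pow_card_eq_one'
          rw [hA] at h4
          exact congrArg Subtype.val h4
        change (MulAut.conjNormal a) ^ p = 1
        rw [← map_pow, h3, map_one]
      exact Nat.Coprime.coprime_dvd_left h2 (pPrimeCore_coprime p).symm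
    have h2 : ∀ g : K, Odd (orderOf (g⁻¹ * α g)) := by
      intro g
      have h3 := (hOP ((g : G)⁻¹)).1
      have h4 : ((g⁻¹ * α g : K) : G) ∈ A ⊔ MulAut.conj ((g : G)⁻¹) • A := by
        rw [Subgroup.coe_mul, hα, Subgroup.coe_inv]
        have e : (g : G)⁻¹ * (a * g * a⁻¹) = ((g : G)⁻¹ * a * g) * a⁻¹ := by group
        rw [e]
        refine mul_mem (mem_sup_right ?_) (mem_sup_left (inv_mem ha))
        rw [mem_pointwise_smul_iff_inv_smul_mem, ← map_inv, MulAut.smul_def, MulAut.conj_apply,
          inv_inv]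
        have e2 : (g : G) * ((g : G)⁻¹ * a * g) * (g : G)⁻¹ = a := by group
        rwa [e2]
      rw [← Subgroup.orderOf_coe, ← Subgroup.orderOf_mk _ h4]
      exact h3.of_dvd_nat (orderOf_dvd_natCard _)
    have h3 := hcop α h1 h2 ⟨k, hk⟩
    have h4 : (((⟨k, hk⟩ : K)⁻¹ * α ⟨k, hk⟩ : K) : G) ∈ (pPrimeCore 2 K).map K.subtype :=
      ⟨_, h3, rfl⟩
    rw [map_subtype_pPrimeCore 2 hKn, hO, inf_bot_eq, mem_bot, Subgroup.coe_mul, hα] at h4
    exact (inv_mul_eq_one.1 h4).symm
  -- so `A` is normal
  have hAn : A.Normal := by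
    constructor
    intro x hx g
    have hg : g ∈ K ⊔ A := by rw [htop]; trivial
    rw [sup_comm] at hg
    obtain ⟨y, hy, k, hk, rfl⟩ := (Subgroup.mem_sup_of_normal_right).1 hg
    have h1 : k * x * k⁻¹ = x := by
      have h2 := hcen x hx k hk
      calc k * x * k⁻¹ = (x * k * x⁻¹) * x * k⁻¹ := by rw [h2]
        _ = x := by group
    have e : y * k * x * (y * k)⁻¹ = y * (k * x * k⁻¹) * y⁻¹ := by group
    rw [e, h1]
    exact mul_mem (mul_mem hy hx) (inv_mem hy)
  exact hAne (eq_bot_of_odd hO hAn hAodd)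

end caseI

section simple
variable {G : Type u} [Group G] {p : ℕ}

theorem conj_smul_normalizer_index [Finite G] (A : Subgroup G) (g : G) :
    (normalizer ((MulAut.conj g • A : Subgroup G) : Set G)).index = (normalizer (A : Set G)).index := by
  rw [normalizer_conj]
  have h1 := (normalizer (A : Set G)).card_mul_index
  have h2 := (MulAut.conj g • normalizer (A : Set G)).card_mul_index
  rw [card_conj, ← h1] at h2
  exact Nat.eq_of_mul_eq_mul_left Nat.card_pos h2

/-- `G` simple -/
theorem simple [Finite G] (hs : IsSimpleGroup G) (hna : ¬ IsMulCommutative G) (hp : p.Prime)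
    (hp2 : p ≠ 2) (A : Subgroup G) (hA : Nat.card A = p)
    (hOP : OP A) (hO : pPrimeCore 2 G = ⊥)
    (IHs : ∀ H : Subgroup G, H ≠ ⊤ → ∀ B : Subgroup G, B ≤ H → Nat.card B = p → OP B →
      B ≤ (pPrimeCore 2 H).map H.subtype)
    (hcyc : ∀ x : G, orderOf x = 2 → IsCyclic ↥(oddCore ↥(centralizer ({x} : Set G))))
    (hB : ∀ H : Subgroup G, IsStronglyEmbedded H → (oddCore ↥H).map H.subtype ≤ oddCore G) :
    False := by
  have hpf : Fact p.Prime := ⟨hp⟩
  have hAne := ne_bot_of_card hp hA
  set M : Subgroup G := normalizer (A : Set G) with hM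
  have hAM : A ≤ M := le_normalizer
  have hcA : IsCyclic A := isCyclic_of_prime_card hA
  have hMtop : M ≠ ⊤ := by
    intro h
    have hAn : A.Normal := normalizer_eq_top_iff.1 h
    rcases hAn.eq_bot_or_eq_top with h1 | h1
    · exact hAne h1
    · apply hna
      refine ⟨⟨fun x y => comm_of_card_prime hp hA ?_ ?_⟩⟩ <;> (rw [h1]; trivial)
  -- the index of `M` is odd
  have hidx : ¬ 2 ∣ M.index := by
    obtain ⟨T⟩ : Nonempty (Sylow 2 G) := inferInstance
    have : Fact (Nat.Prime 2) := ⟨Nat.prime_two⟩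
    obtain ⟨g, hg⟩ := hOP.exists_normalizes _ (T : Subgroup G) rfl T.isPGroup'
    rw [hM, ← conj_smul_normalizer_index A g]
    intro h
    exact T.not_dvd_index (h.trans (index_dvd_of_le hg))
  -- the sign homomorphism
  let ϕ : M →* (ZMod (Nat.card A))ˣ :=
    (IsCyclic.mulAutMulEquiv A).toMonoidHom.comp A.normalizerMonoidHom
  have hϕ : ∀ m : M, ϕ m = 1 → ∀ a ∈ A, (m : G) * a * (m : G)⁻¹ = a := by
    intro m hm a ha
    have h1 : A.normalizerMonoidHom m = 1 := by
      apply (IsCyclic.mulAutMulEquiv A).injective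
      rw [map_one]
      exact hm
    have h2 := congrArg (fun e : MulAut A => ((e ⟨a, ha⟩ : A) : G)) h1
    exact h2
  -- conjugate involutions of `M` have the same sign
  have hfus : ∀ (t : M) (g : G) (hg : g⁻¹ * t * g ∈ M), t * t = 1 → ϕ ⟨g⁻¹ * t * g, hg⟩ = ϕ t := by
    intro t g hg htt
    obtain ⟨hodd, f, hf, hfg⟩ := hOP g
    set X := A ⊔ MulAut.conj g • A with hX
    have hn : f⁻¹ * g ∈ M := by
      rw [hM, mem_normalizer_iff_conj, ← conj_smul_conj, ← hfg, conj_smul_conj, inv_mul_cancel,
        map_one, one_smul]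
    set n : M := ⟨f⁻¹ * g, hn⟩ with hnd
    have htA : MulAut.conj (t : G) • A = A := mem_normalizer_iff_conj.1 t.2
    have htB : MulAut.conj (t : G) • MulAut.conj g • A = MulAut.conj g • A := by
      have h1 := mem_normalizer_iff_conj.1 hg
      have e : (t : G) * g = g * (g⁻¹ * t * g) := by group
      rw [conj_smul_conj, e, ← conj_smul_conj, h1]
    have htX : MulAut.conj (t : G) • X = X := by
      rw [hX, conj_smul_sup, htA, htB]
    have hc1 : f⁻¹ * ((t : G) * f * (t : G)⁻¹) ∈ X := by
      refine mul_mem (inv_mem hf) ?_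
      rw [← htX, ← MulAut.conj_apply, ← MulAut.smul_def]
      exact smul_mem_pointwise_smul _ _ _ hf
    have hs : f⁻¹ * t * f ∈ M := by
      change f⁻¹ * t * f ∈ normalizer (A : Set G)
      rw [mem_normalizer_iff_conj, ← conj_smul_conj, ← conj_smul_conj, hfg, htB, ← hfg,
        conj_smul_conj, inv_mul_cancel, map_one, one_smul]
    set s : M := ⟨f⁻¹ * t * f, hs⟩ with hsd
    have hc2 : f⁻¹ * ((t : G) * f * (t : G)⁻¹) ∈ M := by
      have e : f⁻¹ * ((t : G) * f * (t : G)⁻¹) = ((s * t⁻¹ : M) : G) := by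
        rw [hsd]; push_cast; group
      rw [e]
      exact (s * t⁻¹).2
    have hst : s * s = 1 := by
      apply Subtype.ext
      have e : ((s * s : M) : G) = f⁻¹ * ((t * t : M) : G) * f := by
        rw [hsd]; push_cast; group
      rw [e, htt]; simp
    have h1 : (⟨g⁻¹ * t * g, hg⟩ : M) = n⁻¹ * s * n := by
      apply Subtype.ext
      rw [hnd, hsd]
      push_cast
      group
    have h2 : ϕ ⟨g⁻¹ * t * g, hg⟩ = ϕ s := by
      rw [h1, map_mul, map_mul, map_inv, mul_comm, mul_inv_cancel_left]
    rw [h2]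
    -- the odd element `s * t⁻¹`
    have h3 : Odd (orderOf (s * t⁻¹)) := by
      have e : ((s * t⁻¹ : M) : G) = f⁻¹ * ((t : G) * f * (t : G)⁻¹) := by
        rw [hsd]; push_cast; group
      rw [← Subgroup.orderOf_coe, e, ← Subgroup.orderOf_mk _ hc1]
      exact hodd.of_dvd_nat (orderOf_dvd_natCard _)
    have h4 : ϕ (s * t⁻¹) ^ 2 = 1 := by
      rw [map_mul, mul_pow, ← map_pow, ← map_pow, sq, hst, inv_pow, sq, htt, inv_one, map_one,
        one_mul]
    have h5 : ϕ (s * t⁻¹) ^ orderOf (s * t⁻¹) = 1 := by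
      rw [← map_pow, pow_orderOf_eq_one, map_one]
    have h6 : ϕ (s * t⁻¹) = 1 := by
      have h7 : orderOf (ϕ (s * t⁻¹)) ∣ Nat.gcd 2 (orderOf (s * t⁻¹)) :=
        Nat.dvd_gcd (orderOf_dvd_of_pow_eq_one h4) (orderOf_dvd_of_pow_eq_one h5)
      have h8 : Nat.gcd 2 (orderOf (s * t⁻¹)) = 1 := (Nat.coprime_two_left).2 h3
      rw [h8, Nat.dvd_one, orderOf_eq_one_iff] at h7
      exact h7
    rw [map_mul, map_inv, mul_inv_eq_one] at h6
    exact h6
  -- the involutions of `M` centralise `A`
  have hinv : ∀ t : M, t * t = 1 → ∀ a ∈ A, (t : G) * a * (t : G)⁻¹ = a := by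
    intro t htt
    apply hϕ
    have h1 : MonoidHom.transfer ϕ (t : G) = ϕ t ^ M.index := by
      apply transfer_eq_pow_of_fusion
      intro k g₀ hk
      have h2 : (t ^ k) * (t ^ k) = 1 := by
        rw [← (Commute.refl t).mul_pow, htt, one_pow]
      have h3 := hfus (t ^ k) g₀ (by exact hk) h2
      rw [map_pow] at h3
      exact h3
    have h2 : MonoidHom.transfer ϕ (t : G) = 1 := by
      have h3 : (MonoidHom.transfer ϕ).ker.Normal := inferInstance
      rcases h3.eq_bot_or_eq_top with h4 | h4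
      · exfalso
        apply hna
        have h5 : Function.Injective (MonoidHom.transfer ϕ) := (MonoidHom.ker_eq_bot_iff _).1 h4
        refine ⟨⟨fun x y => h5 ?_⟩⟩
        rw [map_mul, map_mul, mul_comm]
      · have h5 : (t : G) ∈ (MonoidHom.transfer ϕ).ker := by rw [h4]; trivial
        exact h5
    have h3 : ϕ t ^ 2 = 1 := by rw [← map_pow, sq, htt, map_one]
    have h4 : Odd M.index := by
      rw [← Nat.not_even_iff_odd, even_iff_two_dvd]; exact hidx
    obtain ⟨k, hk⟩ := h4
    rw [h2, hk, pow_succ, pow_mul, h3, one_pow, one_mul] at h1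
    exact h1.symm
  -- conjugates normalised by the same involution are equal
  have huniq : ∀ (t : G), orderOf t = 2 → t ∈ M → ∀ g : G,
      t ∈ normalizer ((MulAut.conj g • A : Subgroup G) : Set G) → MulAut.conj g • A = A := by
    intro t ht htM g htg
    have htt : t * t = 1 := by rw [← sq, ← ht, pow_orderOf_eq_one]
    set C : Subgroup G := centralizer ({t} : Set G) with hC
    have h1 : A ≤ C := by
      intro a ha
      rw [hC, mem_centralizer_singleton_iff]
      have := hinv ⟨t, htM⟩ (Subtype.ext htt) a ha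
      exact (mul_inv_eq_iff_eq_mul.1 this).symm
    have h2 : MulAut.conj g • A ≤ C := by
      intro b hb
      have hgM : g⁻¹ * t * g ∈ M := by
        rw [hM, mem_normalizer_iff_conj, ← conj_smul_conj, ← conj_smul_conj,
          mem_normalizer_iff_conj.1 htg, conj_smul_conj, inv_mul_cancel, map_one, one_smul]
      rw [mem_pointwise_smul_iff_inv_smul_mem, ← map_inv, MulAut.smul_def, MulAut.conj_apply,
        inv_inv] at hb
      have h3 := hinv ⟨g⁻¹ * t * g, hgM⟩ (Subtype.ext (by
        change g⁻¹ * t * g * (g⁻¹ * t * g) = 1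
        have e : g⁻¹ * t * g * (g⁻¹ * t * g) = g⁻¹ * (t * t) * g := by group
        rw [e, htt]; simp)) _ hb
      rw [hC, mem_centralizer_singleton_iff]
      change g⁻¹ * t * g * (g⁻¹ * b * g) * (g⁻¹ * t * g)⁻¹ = g⁻¹ * b * g at h3
      have e : b = g * (g⁻¹ * b * g) * g⁻¹ := by group
      have h4 : t * b * t⁻¹ = b := by
        calc t * b * t⁻¹ = g * (g⁻¹ * t * g * (g⁻¹ * b * g) * (g⁻¹ * t * g)⁻¹) * g⁻¹ := by group
          _ = b := by rw [h3]; group
      exact (mul_inv_eq_iff_eq_mul.1 h4).symm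
    have hCtop : C ≠ ⊤ := by
      intro h
      have h3 : t ∈ center G := by
        rw [mem_center_iff]
        intro x
        have h4 : x ∈ C := by rw [h]; trivial
        exact mem_centralizer_singleton_iff.1 h4
      have h4 : (center G).Normal := inferInstance
      rcases h4.eq_bot_or_eq_top with h5 | h5
      · rw [h5, mem_bot] at h3
        rw [h3, orderOf_one] at ht
        omega
      · apply hna
        refine ⟨⟨fun x y => ?_⟩⟩
        have h6 : y ∈ center G := by rw [h5]; trivial
        exact mem_center_iff.1 h6 x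
    have h3 := IHs C hCtop A h1 hA hOP
    have h4 := IHs C hCtop _ h2 ((card_conj A g).trans hA) (hOP.conj g)
    have hcy : IsCyclic ↥((pPrimeCore 2 C).map C.subtype) := by
      have h5 : IsCyclic ↥(pPrimeCore 2 C) := hcyc t ht
      exact isCyclic_of_surjective (equivMapOfInjective _ C.subtype C.subtype_injective)
        (equivMapOfInjective _ C.subtype C.subtype_injective).surjective
    set R := (pPrimeCore 2 C).map C.subtype with hR
    have h5 : (MulAut.conj g • A).subgroupOf R = A.subgroupOf R := by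
      apply eq_of_card_eq_of_cyclic
      rw [Nat.card_congr (subgroupOfEquivOfLe h3).toEquiv,
        Nat.card_congr (subgroupOfEquivOfLe h4).toEquiv, card_conj]
    have h6 := congrArg (Subgroup.map R.subtype) h5
    rwa [map_subgroupOf_eq_of_le h3, map_subgroupOf_eq_of_le h4] at h6
  -- `M` is strongly embedded
  have hGeven : ¬ Odd (Nat.card G) := by
    intro h
    have h1 : pPrimeCore 2 G = ⊤ := by
      rw [pPrimeCore_eq_top_iff]
      exact (Nat.coprime_two_right).2 h
    rw [h1] at hO
    exact hAne (eq_bot_iff.2 (hO ▸ le_top))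
  have hMeven : Even (Nat.card M) := by
    by_contra h
    apply hGeven
    rw [← M.card_mul_index]
    exact (Nat.not_even_iff_odd.1 h).mul (by
      rw [← Nat.not_even_iff_odd, even_iff_two_dvd]; exact hidx)
  have hSE : IsStronglyEmbedded M := by
    refine ⟨hMtop, hMeven, fun g hg => ?_⟩
    by_contra hodd
    rw [Nat.not_odd_iff_even, even_iff_two_dvd] at hodd
    have : Fact (Nat.Prime 2) := ⟨Nat.prime_two⟩
    obtain ⟨⟨t, ht1, ht2⟩, hto⟩ := exists_prime_orderOf_dvd_card' 2 hodd
    have hto' : orderOf t = 2 := by rw [← hto, ← Subgroup.orderOf_coe]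
    apply hg
    rw [hM, mem_normalizer_iff_conj]
    apply huniq t hto' ht1 g
    rw [normalizer_conj]
    exact ht2
  have h1 := hB M hSE
  have h2 : A ≤ (pPrimeCore 2 M).map M.subtype := by
    have h3 : (A.subgroupOf M).Normal := normal_in_normalizer
    have h4 : A.subgroupOf M ≤ pPrimeCore 2 M := by
      apply le_pPrimeCore h3
      rw [Nat.card_congr (subgroupOfEquivOfLe hAM).toEquiv, hA]
      exact (Nat.coprime_primes hp Nat.prime_two).2 hp2
    calc A = (A.subgroupOf M).map M.subtype := (map_subgroupOf_eq_of_le hAM).symm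
      _ ≤ _ := Subgroup.map_mono h4
  apply hAne
  rw [eq_bot_iff, ← hO]
  exact h2.trans h1

end simple

section main
variable {p : ℕ}

/-- **Main theorem.** -/
theorem star (hp : p.Prime) (hp2 : p ≠ 2)
    (hZ : ∀ (G : Type u) [Group G] [Finite G] (S : Sylow p G) (x : G), x ∈ (S : Subgroup G) →
      (∀ g : G, g * x * g⁻¹ ∈ (S : Subgroup G) → g * x * g⁻¹ = x) → InZStar p x)
    (hcop : ∀ (G : Type u) [Group G] [Finite G] (α : MulAut G),
      (orderOf α).Coprime (Nat.card G) →
      (∀ g, Odd (orderOf (g⁻¹ * α g))) → ∀ g, g⁻¹ * α g ∈ pPrimeCore 2 G)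
    (hcyc : ∀ (G : Type u) [Group G] [Finite G], IsSimpleGroup G → ¬ IsMulCommutative G →
      ∀ x : G, orderOf x = 2 → IsCyclic ↥(oddCore ↥(centralizer ({x} : Set G))))
    (hB : ∀ (G : Type u) [Group G] [Finite G] (H : Subgroup G), IsStronglyEmbedded H →
      (oddCore ↥H).map H.subtype ≤ oddCore G) :
    ∀ (G : Type u) [Group G] [Finite G] (A : Subgroup G), Nat.card A = p → OP A →
      A ≤ pPrimeCore 2 G := by
  have key : ∀ n : ℕ, ∀ (G : Type u) [Group G] [Finite G], Nat.card G = n →
      ∀ A : Subgroup G, Nat.card A = p → OP A → A ≤ pPrimeCore 2 G := by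
    intro n
    induction n using Nat.strong_induction_on with
    | _ n ih =>
    intro G _ _ hn A hA hOP
    have hAne := ne_bot_of_card hp hA
    have IHs : ∀ H : Subgroup G, H ≠ ⊤ → ∀ B : Subgroup G, B ≤ H → Nat.card B = p → OP B →
        B ≤ (pPrimeCore 2 H).map H.subtype := by
      intro H hH B hBH hB2 hOB
      have hlt : Nat.card H < n := by
        rw [← hn]
        exact lt_of_le_of_ne (Nat.le_of_dvd Nat.card_pos (card_subgroup_dvd_card H))
          fun h => hH (Subgroup.eq_top_of_card_eq H h)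
      have h1 := ih _ hlt H rfl (B.subgroupOf H)
        (by rw [Nat.card_congr (subgroupOfEquivOfLe hBH).toEquiv, hB2]) (hOB.subgroupOf hBH)
      calc B = (B.subgroupOf H).map H.subtype := (map_subgroupOf_eq_of_le hBH).symm
        _ ≤ _ := Subgroup.map_mono h1
    have IHq : ∀ N : Subgroup G, ∀ _ : N.Normal, N ≠ ⊥ →
        A.map (QuotientGroup.mk' N) ≤ pPrimeCore 2 (G ⧸ N) := by
      intro N hN hne
      have hlt : Nat.card (G ⧸ N) < n := by
        rw [← hn, ← Subgroup.index_eq_card, ← N.card_mul_index]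
        have h1 : 1 < Nat.card N := by
          rw [Subgroup.one_lt_card_iff_ne_bot]; exact hne
        have h2 : 0 < N.index := Nat.pos_of_ne_zero Subgroup.index_ne_zero_of_finite
        nlinarith
      have h1 : Nat.card (A.map (QuotientGroup.mk' N)) ∣ p := by
        rw [← hA]; exact card_map_dvd _ _
      rcases (Nat.dvd_prime hp).1 h1 with h2 | h2
      · rw [Subgroup.eq_bot_of_card_eq _ h2]; exact bot_le
      · exact ih _ hlt (G ⧸ N) rfl _ h2 (hOP.map _ (QuotientGroup.mk'_surjective N))
    by_cases hO : pPrimeCore 2 G = ⊥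
    swap
    · have h1 := IHq _ (Cfsg.Agent.Lib.Cores.pPrimeCore_normal 2) hO
      rw [pPrimeCore_quotient_pPrimeCore, le_bot_iff, Subgroup.map_eq_bot_iff,
        QuotientGroup.ker_mk'] at h1
      exact h1
    exfalso
    have hAodd : (Nat.card A).Coprime 2 := by
      rw [hA]; exact (Nat.coprime_primes hp Nat.prime_two).2 hp2
    -- proper normal subgroups do not contain `A`
    have hCl : ∀ N : Subgroup G, N.Normal → N ≠ ⊤ → ¬ A ≤ N := by
      intro N hN hNt hAN
      have h1 := IHs N hNt A hAN hA hOP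
      rw [map_subtype_pPrimeCore 2 hN, hO, inf_bot_eq] at h1
      exact hAne (le_bot_iff.1 h1)
    have hAn : ¬ A.Normal := fun h => hAne (eq_bot_of_odd hO h hAodd)
    -- proper nontrivial normal subgroups are complements
    have hSup : ∀ N : Subgroup G, N.Normal → N ≠ ⊥ → N ≠ ⊤ → N ⊔ A = ⊤ := by
      intro N hN hNb hNt
      by_contra hne
      set H := N ⊔ A with hH
      have h1 := IHs H hne A le_sup_right hA hOP
      set O := (pPrimeCore 2 H).map H.subtype with hOdef
      have hNH : N ≤ H := le_sup_left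
      have hOn : ∀ h ∈ H, ∀ x ∈ O, h * x * h⁻¹ ∈ O := by
        rintro h hh _ ⟨x, hx, rfl⟩
        exact ⟨⟨h, hh⟩ * x * ⟨h, hh⟩⁻¹,
          (Cfsg.Agent.Lib.Cores.pPrimeCore_normal (G := H) 2).conj_mem x hx ⟨h, hh⟩, rfl⟩
      have hL : N ⊓ O = ⊥ := by
        have h2 : ((N ⊓ O).subgroupOf N).Normal := by
          constructor
          intro x hx g
          rw [mem_subgroupOf] at hx ⊢
          exact ⟨(g * x * g⁻¹).2, hOn g (hNH g.2) x hx.2⟩
        have h3 : (Nat.card ((N ⊓ O).subgroupOf N)).Coprime 2 := by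
          rw [Nat.card_congr (subgroupOfEquivOfLe inf_le_left).toEquiv]
          refine Nat.Coprime.coprime_dvd_left (card_dvd_of_le inf_le_right) ?_
          rw [hOdef, card_map_of_injective H.subtype_injective]
          exact pPrimeCore_coprime 2
        have h4 := Subgroup.map_mono (f := N.subtype) (le_pPrimeCore h2 h3)
        rw [map_subtype_pPrimeCore 2 hN, hO, inf_bot_eq, map_subgroupOf_eq_of_le inf_le_left] at h4
        exact le_bot_iff.1 h4
      have hcen : A ≤ centralizer (N : Set G) := by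
        intro a ha
        rw [mem_centralizer_iff]
        intro n hn2
        have h2 : n * a * n⁻¹ * a⁻¹ ∈ N ⊓ O := by
          have h5 : n * a * n⁻¹ * a⁻¹ ∈ O :=
            O.mul_mem (hOn n (hNH hn2) a (h1 ha)) (O.inv_mem (h1 ha))
          refine ⟨?_, h5⟩
          have e : n * a * n⁻¹ * a⁻¹ = n * (a * n⁻¹ * a⁻¹) := by group
          rw [e]
          exact mul_mem hn2 (hN.conj_mem _ (inv_mem hn2) a)
        rw [hL, mem_bot] at h2
        exact mul_inv_eq_iff_eq_mul.1 (mul_inv_eq_one.1 h2)
      have hcn : (centralizer (N : Set G)).Normal := inferInstance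
      have hct : centralizer (N : Set G) = ⊤ := by
        by_contra h2
        exact hCl _ hcn h2 hcen
      have hNZ : N ≤ center G := by
        intro x hx
        rw [mem_center_iff]
        intro y
        have h3 : y ∈ centralizer (N : Set G) := hct ▸ mem_top y
        exact (mem_centralizer_iff.1 h3 x hx).symm
      have h2 := IHq N hN hNb
      have h3 : (pPrimeCore 2 (G ⧸ N)).comap (QuotientGroup.mk' N) = ⊤ := by
        by_contra h4
        exact hCl _ ((Cfsg.Agent.Lib.Cores.pPrimeCore_normal 2).comap _) h4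
          (Subgroup.map_le_iff_le_comap.1 h2)
      apply hNt
      apply eq_top_of_central hO hNZ
      rw [← pPrimeCore_eq_top_iff,
        ← Subgroup.map_comap_eq_self_of_surjective (QuotientGroup.mk'_surjective N)
          (pPrimeCore 2 (G ⧸ N)), h3, ← MonoidHom.range_eq_map, MonoidHom.range_eq_top]
      exact QuotientGroup.mk'_surjective N
    by_cases hex : ∃ N : Subgroup G, N.Normal ∧ N ≠ ⊥ ∧ N ≠ ⊤
    · obtain ⟨N, hN, hNb, hNt⟩ := hex
      have htop := hSup N hN hNb hNt
      have hNA : N ⊓ A = ⊥ := by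
        have h1 : Nat.card (N ⊓ A : Subgroup G) ∣ p := by
          rw [← hA]; exact card_dvd_of_le inf_le_right
        rcases (Nat.dvd_prime hp).1 h1 with h2 | h2
        · exact Subgroup.eq_bot_of_card_eq _ h2
        · exfalso
          apply hCl N hN hNt
          have h3 : N ⊓ A = A := Subgroup.eq_of_le_of_card_ge inf_le_right (by rw [h2, hA])
          rw [← h3]
          exact inf_le_left
      refine caseI hp hp2 A hA hOP hO hCl (fun S x => hZ G S x) (fun α => hcop _ α) ?_
      intro g hg a ha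
      have hg2 : g ∈ N ⊔ A := by rw [htop]; trivial
      obtain ⟨n, hn2, b, hb, rfl⟩ := (Subgroup.mem_sup_of_normal_left).1 hg2
      have h1 : b * a * b⁻¹ = a := by
        rw [comm_of_card_prime hp hA hb ha]; group
      have h2 : n * b * a * (n * b)⁻¹ = n * a * n⁻¹ := by
        have e : n * b * a * (n * b)⁻¹ = n * (b * a * b⁻¹) * n⁻¹ := by group
        rw [e, h1]
      rw [h2]
      have h3 : n * a * n⁻¹ ∈ A := by
        rw [← h2, ← hg, ← MulAut.conj_apply, ← MulAut.smul_def]
        exact smul_mem_pointwise_smul _ _ _ ha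
      have h4 : n * a * n⁻¹ * a⁻¹ ∈ N ⊓ A := by
        refine ⟨?_, A.mul_mem h3 (A.inv_mem ha)⟩
        have e : n * a * n⁻¹ * a⁻¹ = n * (a * n⁻¹ * a⁻¹) := by group
        rw [e]
        exact mul_mem hn2 (hN.conj_mem _ (inv_mem hn2) a)
      rw [hNA, mem_bot] at h4
      exact mul_inv_eq_one.1 h4
    · push Not at hex
      have hnt : Nontrivial G := by
        rw [← Subgroup.nontrivial_iff (G := G)]
        exact ⟨A, ⊥, hAne⟩
      have hs : IsSimpleGroup G := by
        refine ⟨fun N hN => ?_⟩
        by_cases h1 : N = ⊥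
        · exact Or.inl h1
        · exact Or.inr (hex N hN h1)
      by_cases hc : IsMulCommutative G
      · apply hAn
        constructor
        intro x hx g
        have h1 : g * x = x * g := hc.is_comm.comm g x
        rw [h1, mul_inv_cancel_right]
        exact hx
      · exact simple hs hc hp hp2 A hA hOP hO IHs (hcyc G hs hc) (hB G)
  intro G _ _ A hA hOP
  exact key _ G rfl A hA hOP

end main

end Cfsg.Agent.H543.PairStar
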